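import Groth.Prelude.Def_Magnet3
import Mathlib

/-! Attractor maps are monomorphisms for separated schemes: `A(M)_T ⟶ A(N)_T` is schematically
dominant for `N ⊆ M`. -/

universe u

open CategoryTheory CategoryTheory.Limits MonoidalCategory CartesianMonoidalCategory MonObj
open AlgebraicGeometry Opposite Magnet TensorProduct

namespace Groth.Agent.MagnetLib

theorem ext_of_appTop_injective {X W Y Z : Scheme.{u}} [IsAffine X] [IsAffine W] {f g : X ⟶ Y}
    (s : Y ⟶ Z) [IsSeparated s] (h : f ≫ s = g ≫ s) (incl : W ⟶ X)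
    (hincl : Function.Injective incl.appTop) (hU : incl ≫ f = incl ≫ g) : f = g := by
  let X' : Over Z := Over.mk (f ≫ s)
  let Y' : Over Z := Over.mk s
  let U' : Over Z := Over.mk (incl ≫ f ≫ s)
  let f' : X' ⟶ Y' := Over.homMk f
  let g' : X' ⟶ Y' := Over.homMk g
  let incl' : U' ⟶ X' := Over.homMk incl
  have : IsSeparated Y'.hom := ‹_›
  have : IsAffine X'.left := ‹IsAffine X›
  have hfac : (equalizer.lift incl' (by ext1; exact hU)).left ≫ (equalizer.ι f' g').left = incl := by
    rw [← Over.comp_left, equalizer.lift_ι]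
    rfl
  have hinj : Function.Injective (equalizer.ι f' g').left.appTop := by
    intro a b hab
    apply hincl
    have := congrArg (fun m => m.appTop) hfac
    simp only [Scheme.Hom.comp_appTop] at this
    rw [← this]
    simp only [CommRingCat.comp_apply]
    exact congrArg _ hab
  have : IsIso (equalizer.ι f' g').left := IsClosedImmersion.isIso_of_injective_of_isAffine hinj
  rw [← cancel_epi (equalizer.ι f' g').left]
  exact congr($(equalizer.condition f' g').left)

variable {S : Scheme.{u}} {M N : Type} [AddCommMonoid M] [AddCommMonoid N]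

theorem lTensor_mapDomain_injective (k R : Type u) [CommRing k] [CommRing R] [Algebra k R]
    (f : N →+ M) (hf : Function.Injective f) :
    Function.Injective (Algebra.TensorProduct.map
      (MonoidAlgebra.mapDomainBialgHom k (AddMonoidHom.toMultiplicative f)).toAlgHom
      (AlgHom.id k R)) := by
  classical
  let F : MonoidAlgebra k (Multiplicative N) →ₗ[k] MonoidAlgebra k (Multiplicative M) :=
    (MonoidAlgebra.mapDomainBialgHom k (AddMonoidHom.toMultiplicative f)).toAlgHom.toLinearMap
  obtain ⟨G, hG⟩ : ∃ G : MonoidAlgebra k (Multiplicative M) →ₗ[k] MonoidAlgebra k (Multiplicative N),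
      G ∘ₗ F = LinearMap.id := by
    let b := MonoidAlgebra.basis (Multiplicative M) k
    let g := Function.invFun (AddMonoidHom.toMultiplicative f)
    refine ⟨b.constr k fun m => MonoidAlgebra.single (g m) 1,
      (MonoidAlgebra.basis (Multiplicative N) k).ext fun n => ?_⟩
    have hinj : Function.Injective (AddMonoidHom.toMultiplicative f) := hf
    have h1 : F (MonoidAlgebra.basis (Multiplicative N) k n) =
        b (AddMonoidHom.toMultiplicative f n) := by
      simp [F, b]
    rw [LinearMap.comp_apply, h1, Module.Basis.constr_basis, LinearMap.id_apply]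
    rw [show g (AddMonoidHom.toMultiplicative f n) = n from Function.leftInverse_invFun hinj n,
      MonoidAlgebra.basis_apply]
  have hcomp : (G.rTensor R) ∘ₗ (F.rTensor R) = LinearMap.id := by
    rw [← LinearMap.rTensor_comp, hG, LinearMap.rTensor_id]
  intro a b hab
  have h : F.rTensor R a = F.rTensor R b := hab
  simpa [← LinearMap.comp_apply, hcomp] using congrArg (G.rTensor R) h

theorem ext_of_bc_map_affine (k : Type u) [CommRing k] (z : S ⟶ Spec (CommRingCat.of k))
    (f : N →+ M) (hf : Function.Injective f) {X : Over S}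
    [IsSeparated X.hom] (T : Over S) [IsAffine T.left] (φ ψ : Red.bc z (AMon k N) ⊗ T ⟶ X)
    (h : ((Over.pullback z).map (AMon.map k f) ▷ T) ≫ φ =
      ((Over.pullback z).map (AMon.map k f) ▷ T) ≫ ψ) : φ = ψ := by
  let R : CommRingCat.{u} := Γ(T.left, ⊤)
  let t : Spec R ⟶ T.left := T.left.isoSpec.inv
  letI : Algebra k R := (Spec.preimage (t ≫ T.hom ≫ z)).hom.toAlgebra
  have hz : Spec.map (CommRingCat.ofHom (algebraMap k R)) = t ≫ T.hom ≫ z := Spec.map_preimage _
  let j : CommRingCat.of (MonoidAlgebra k (Multiplicative N) ⊗[k] R) ⟶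
      CommRingCat.of (MonoidAlgebra k (Multiplicative M) ⊗[k] R) :=
    CommRingCat.ofHom (Algebra.TensorProduct.map
      (MonoidAlgebra.mapDomainBialgHom k (AddMonoidHom.toMultiplicative f)).toAlgHom
      (AlgHom.id k R)).toRingHom
  let inL : ∀ (K : Type) [AddCommMonoid K],
      Spec (CommRingCat.of (MonoidAlgebra k (Multiplicative K) ⊗[k] R)) ⟶ (AMon k K).left :=
    fun K _ => Spec.map (CommRingCat.ofHom (Algebra.TensorProduct.includeLeft :
      MonoidAlgebra k (Multiplicative K) →ₐ[k] MonoidAlgebra k (Multiplicative K) ⊗[k] R).toRingHom)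
  let inR : ∀ (K : Type) [AddCommMonoid K],
      Spec (CommRingCat.of (MonoidAlgebra k (Multiplicative K) ⊗[k] R)) ⟶ Spec R :=
    fun K _ => Spec.map (CommRingCat.ofHom (Algebra.TensorProduct.includeRight :
      R →ₐ[k] MonoidAlgebra k (Multiplicative K) ⊗[k] R).toRingHom)
  have hsq : ∀ (K : Type) [AddCommMonoid K],
      IsPullback (inL K) (inR K ≫ t) (AMon k K).hom (T.hom ≫ z) := fun K _ =>
    (isPullback_SpecMap_of_isPushout _ _ _ _
      (CommRingCat.isPushout_tensorProduct k (MonoidAlgebra k (Multiplicative K)) R)).of_iso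
      (Iso.refl _) (Iso.refl _) T.left.isoSpec.symm (Iso.refl _)
      ((Category.comp_id _).trans (Category.id_comp _).symm)
      (Category.id_comp _).symm
      ((Category.comp_id _).trans (Category.id_comp _).symm)
      (by simp only [Iso.symm_hom, Iso.refl_hom, Category.comp_id]; exact hz)
  have hbig : ∀ (K : Type) [AddCommMonoid K], IsPullback
      (pullback.fst (Red.bc z (AMon k K)).hom T.hom ≫ pullback.fst (AMon k K).hom z)
      (pullback.snd (Red.bc z (AMon k K)).hom T.hom) (AMon k K).hom (T.hom ≫ z) := fun K _ =>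
    (IsPullback.of_hasPullback (Red.bc z (AMon k K)).hom T.hom).paste_horiz
      (IsPullback.of_hasPullback (AMon k K).hom z)
  let e : ∀ (K : Type) [AddCommMonoid K],
      Spec (CommRingCat.of (MonoidAlgebra k (Multiplicative K) ⊗[k] R)) ⟶
        (Red.bc z (AMon k K) ⊗ T).left :=
    fun K _ => ((hsq K).isoIsPullback _ _ (hbig K)).hom
  have e1 : ∀ (K : Type) [AddCommMonoid K],
      e K ≫ pullback.fst (Red.bc z (AMon k K)).hom T.hom ≫ pullback.fst (AMon k K).hom z = inL K :=
    fun K _ => IsPullback.isoIsPullback_hom_fst _ _ _ _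
  have e2 : ∀ (K : Type) [AddCommMonoid K],
      e K ≫ pullback.snd (Red.bc z (AMon k K)).hom T.hom = inR K ≫ t :=
    fun K _ => IsPullback.isoIsPullback_hom_snd _ _ _ _
  have hjR : Spec.map j ≫ inR N = inR M := by
    refine (Spec.map_comp _ _).symm.trans ?_
    congr 1
    ext r
    simp [j]
  have hjL : Spec.map j ≫ inL N = inL M ≫ (AMon.map k f).left := by
    rw [AMon.map_left]
    refine (Spec.map_comp _ _).symm.trans (Eq.trans ?_ (Spec.map_comp _ _))
    congr 1
  have hcomm : e M ≫ ((Over.pullback z).map (AMon.map k f) ▷ T).left = Spec.map j ≫ e N := by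
    apply (hbig N).hom_ext
    · rw [Category.assoc (Spec.map j), e1 N, hjL, ← e1 M]
      simp only [Category.assoc]
      congr 1
      erw [← Category.assoc, Over.whiskerRight_left_fst, Category.assoc]
      congr 1
      exact pullback.lift_fst _ _ _
    · rw [Category.assoc (Spec.map j), e2 N, ← Category.assoc (Spec.map j), hjR, ← e2 M]
      simp only [Category.assoc]
      congr 1
      exact Over.whiskerRight_left_snd _
  apply Over.OverMorphism.ext
  rw [← cancel_epi (e N)]
  refine ext_of_appTop_injective X.hom ?_ (Spec.map j) ?_ ?_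
  · rw [Category.assoc, Category.assoc, Over.w φ, Over.w ψ]
  · intro a b hab
    apply (ConcreteCategory.bijective_of_isIso (Scheme.ΓSpecIso (CommRingCat.of
      (MonoidAlgebra k (Multiplicative N) ⊗[k] R))).hom).1
    have hn := Scheme.ΓSpecIso_naturality j
    apply lTensor_mapDomain_injective k R f hf
    have ha := congrArg (fun q => q.hom a) hn
    have hb := congrArg (fun q => q.hom b) hn
    simp only [CommRingCat.hom_comp, RingHom.comp_apply] at ha hb
    exact ha.symm.trans ((congrArg _ hab).trans hb)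
  · rw [← reassoc_of% hcomm, ← reassoc_of% hcomm]
    exact congrArg (e M ≫ ·) (congrArg (fun q => q.left) h)

theorem ext_of_AMonS_map (f : N →+ M) (hf : Function.Injective f) {X : Over S}
    [IsSeparated X.hom] (T : Over S) (φ ψ : AMonS S N ⊗ T ⟶ X)
    (h : (AMonS.map S f ▷ T) ≫ φ = (AMonS.map S f ▷ T) ≫ ψ) : φ = ψ := by
  apply Over.OverMorphism.ext
  refine (Scheme.Pullback.openCoverOfRight T.left.affineCover (AMonS S N).hom T.hom).hom_ext _ _ fun i => ?_
  let T' : Over S := Over.mk (T.left.affineCover.f i ≫ T.hom)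
  haveI : IsAffine T'.left := inferInstanceAs (IsAffine (T.left.affineCover.X i))
  let u : T' ⟶ T := Over.homMk (T.left.affineCover.f i)
  have h' : (AMonS S N ◁ u) ≫ φ = (AMonS S N ◁ u) ≫ ψ :=
    ext_of_bc_map_affine (ULift.{u} ℤ) _ f hf T' _ _ (by
      show (AMonS.map S f ▷ T') ≫ _ = (AMonS.map S f ▷ T') ≫ _
      rw [← whisker_exchange_assoc, ← whisker_exchange_assoc, h])
  have hu : (AMonS S N ◁ u).left =
      (Scheme.Pullback.openCoverOfRight T.left.affineCover (AMonS S N).hom T.hom).f i := by
    apply pullback.hom_ext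
    · erw [Over.whiskerLeft_left_fst u]
    · erw [Over.whiskerLeft_left_snd u]
  rw [← hu]
  exact congrArg (fun k => k.left) h'

theorem attrMap_injective {X : Over S} [IsSeparated X.hom] (a : MonAct (AMonS S M) X)
    {L L' : AddSubmonoid M} (h : L ≤ L') (T : Over S) :
    Function.Injective (fun φ => (attrMap a h).app (op T) φ) := by
  intro φ ψ hφψ
  exact Subtype.ext (ext_of_AMonS_map (AddSubmonoid.inclusion h) (Set.inclusion_injective h) T φ.1 ψ.1
    (congrArg Subtype.val hφψ))

theorem attrToX_injective {X : Over S} [IsSeparated X.hom] (a : MonAct (AMonS S M) X)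
    (L : AddSubmonoid M) (T : Over S) :
    Function.Injective (fun φ => (attrToX a L).app (op T) φ) := by
  intro φ ψ hφψ
  apply Subtype.ext
  refine ext_of_AMonS_map L.subtype Subtype.val_injective T φ.1 ψ.1 ?_
  apply hom_ext_lift₂
  intro T' g t
  have key : ∀ χ : (attr a L).obj (op T), lift g t ≫ (AMonS.map S L.subtype ▷ T) ≫ χ.1 =
      lift g (t ≫ (attrToX a L).app (op T) χ) ≫ a.act := fun χ => by
    have h1 := (MonAct.mem_eqvHom_iff χ.1).mp χ.2 T' g 1 t
    rw [show lift g (1 : T' ⟶ AMonS S L) ≫ (subAct S M L).act = g ≫ AMonS.map S L.subtype from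
      ((MonAct.lift_restrict_act _ _ g 1).trans (MonAct.lift_regular_act _ _)).trans (_root_.mul_one _)] at h1
    rw [lift_whiskerRight_assoc, h1]
    congr 2
    show _ = t ≫ lift (toUnit T ≫ η[AMonS S L]) (𝟙 T) ≫ χ.1
    rw [comp_lift_assoc, Category.comp_id, ← Category.assoc t, comp_toUnit, ← Hom.one_def]
  have e : (attrToX a L).app (op T) φ = (attrToX a L).app (op T) ψ := hφψ
  rw [key, key, e]

end Groth.Agent.MagnetLib
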