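import Groth.Prelude.Def_Magnet3

/-! Formal properties of the functor of equivariant maps. -/

universe v₁ u₁

open CategoryTheory CategoryTheory.Limits MonoidalCategory CartesianMonoidalCategory MonObj Opposite
open Magnet Magnet.MonAct

namespace Groth.Agent.MagnetLib

variable {C : Type u₁} [Category.{v₁} C] [CartesianMonoidalCategory C]

theorem ofPoint_evalAt {A X : C} [MonObj A] (a : MonAct A X) :
    eqvHom.ofPoint a ≫ eqvHom.evalAt (regular A) a η[A] = 𝟙 _ ∧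
      eqvHom.evalAt (regular A) a η[A] ≫ eqvHom.ofPoint a = 𝟙 _ := by
  constructor
  · ext T x
    show lift (toUnit (unop T) ≫ η[A]) (𝟙 (unop T)) ≫ (A ◁ x) ≫ a.act = x
    rw [lift_whiskerLeft_assoc, Category.id_comp, ← Hom.one_def, a.lift_one_act]
  · ext T φ
    apply Subtype.ext
    show (A ◁ (lift (toUnit (unop T) ≫ η[A]) (𝟙 (unop T)) ≫ φ.1)) ≫ a.act = φ.1
    apply hom_ext_lift₂
    intro T' g t
    rw [lift_whiskerLeft_assoc, ← Category.assoc t, comp_lift, Category.comp_id, ← Category.assoc t,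
      comp_toUnit, ← Hom.one_def]
    rw [← (mem_eqvHom_iff φ.1).mp φ.2 T' g 1 t, lift_regular_act, _root_.mul_one]

theorem isPullback_postcomp {A B X₁ X₂ X₃ P : C} [MonObj A] (ρ : MonAct A B) (a₁ : MonAct A X₁)
    (a₂ : MonAct A X₂) (a₃ : MonAct A X₃) (aP : MonAct A P) (f₁ : X₁ ⟶ X₂) (f₃ : X₃ ⟶ X₂)
    (p₁ : P ⟶ X₁) (p₃ : P ⟶ X₃) (hsq : IsPullback p₁ p₃ f₁ f₃) (hf₁ : IsEquivariant a₁ a₂ f₁)
    (hf₃ : IsEquivariant a₃ a₂ f₃) (hp₁ : IsEquivariant aP a₁ p₁) (hp₃ : IsEquivariant aP a₃ p₃) :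
    IsPullback (eqvHom.postcomp ρ p₁ hp₁) (eqvHom.postcomp ρ p₃ hp₃)
      (eqvHom.postcomp ρ f₁ hf₁) (eqvHom.postcomp ρ f₃ hf₃) := by
  refine IsPullback.of_forall_isPullback_app fun T => ?_
  rw [Types.isPullback_iff]
  refine ⟨?_, ?_, ?_⟩
  · ext φ
    apply Subtype.ext
    show (φ.1 ≫ p₁) ≫ f₁ = (φ.1 ≫ p₃) ≫ f₃
    rw [Category.assoc, Category.assoc, hsq.w]
  · rintro φ ψ ⟨h1, h3⟩
    exact Subtype.ext (hsq.hom_ext (congrArg Subtype.val h1) (congrArg Subtype.val h3))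
  · intro φ₁ φ₃ h
    have h' : φ₁.1 ≫ f₁ = φ₃.1 ≫ f₃ := congrArg Subtype.val h
    refine ⟨⟨hsq.lift φ₁.1 φ₃.1 h', ?_⟩, Subtype.ext (hsq.lift_fst _ _ _),
      Subtype.ext (hsq.lift_snd _ _ _)⟩
    unfold IsEquivariant at hp₁ hp₃ ⊢
    apply hsq.hom_ext
    · rw [Category.assoc, hsq.lift_fst, Category.assoc, hp₁, ← MonoidalCategory.whiskerLeft_comp_assoc,
        hsq.lift_fst]
      exact φ₁.2
    · rw [Category.assoc, hsq.lift_snd, Category.assoc, hp₃, ← MonoidalCategory.whiskerLeft_comp_assoc,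
        hsq.lift_snd]
      exact φ₃.2

theorem existsUnique_monAct_of_isPullback {A X₁ X₂ X₃ P : C} [MonObj A] (a₁ : MonAct A X₁)
    (a₂ : MonAct A X₂) (a₃ : MonAct A X₃) (f₁ : X₁ ⟶ X₂) (f₃ : X₃ ⟶ X₂) (p₁ : P ⟶ X₁) (p₃ : P ⟶ X₃)
    (hsq : IsPullback p₁ p₃ f₁ f₃) (hf₁ : IsEquivariant a₁ a₂ f₁) (hf₃ : IsEquivariant a₃ a₂ f₃) :
    ∃! aP : MonAct A P, IsEquivariant aP a₁ p₁ ∧ IsEquivariant aP a₃ p₃ := by
  have hw : ((A ◁ p₁) ≫ a₁.act) ≫ f₁ = ((A ◁ p₃) ≫ a₃.act) ≫ f₃ := by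
    unfold IsEquivariant at hf₁ hf₃
    rw [Category.assoc, Category.assoc, hf₁, hf₃, ← MonoidalCategory.whiskerLeft_comp_assoc,
      ← MonoidalCategory.whiskerLeft_comp_assoc, hsq.w]
  let act := hsq.lift _ _ hw
  have h1 : act ≫ p₁ = (A ◁ p₁) ≫ a₁.act := hsq.lift_fst _ _ _
  have h3 : act ≫ p₃ = (A ◁ p₃) ≫ a₃.act := hsq.lift_snd _ _ _
  let aP : MonAct A P := MonAct.mk' act
    (fun T x => by
      apply hsq.hom_ext
      · rw [Category.assoc, h1, lift_whiskerLeft_assoc, lift_one_act]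
      · rw [Category.assoc, h3, lift_whiskerLeft_assoc, lift_one_act])
    (fun T g h x => by
      apply hsq.hom_ext
      · simp only [Category.assoc, h1, lift_whiskerLeft_assoc, lift_mul_act]
      · simp only [Category.assoc, h3, lift_whiskerLeft_assoc, lift_mul_act])
  refine ⟨aP, ⟨h1, h3⟩, fun b hb => MonAct.ext' (hsq.hom_ext ?_ ?_)⟩
  · exact hb.1.trans h1.symm
  · exact hb.2.trans h3.symm

theorem postcomp_bijective {A B Y Z : C} [MonObj A] (ρ : MonAct A B) (a : MonAct A Y) (b : MonAct A Z)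
    (T : Cᵒᵖ) :
    Function.Bijective (fun φ : (eqvHom ρ (a.prod b)).obj T =>
      ((eqvHom.postcomp ρ (fst Y Z) (isEquivariant_prod_fst a b)).app T φ,
        (eqvHom.postcomp ρ (snd Y Z) (isEquivariant_prod_snd a b)).app T φ)) := by
  constructor
  · intro φ ψ h
    exact Subtype.ext (CartesianMonoidalCategory.hom_ext _ _
      (congrArg Subtype.val (congrArg Prod.fst h)) (congrArg Subtype.val (congrArg Prod.snd h)))
  · rintro ⟨φ₁, φ₂⟩
    refine ⟨⟨lift φ₁.1 φ₂.1, ?_⟩, Prod.ext (Subtype.ext (lift_fst _ _)) (Subtype.ext (lift_snd _ _))⟩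
    rw [mem_eqvHom_iff]
    intro T' g c t
    rw [comp_lift, comp_lift, lift_prod_act, (mem_eqvHom_iff φ₁.1).mp φ₁.2, (mem_eqvHom_iff φ₂.1).mp φ₂.2]

theorem mem_mul {A B X : C} [MonObj A] [MonObj X] (ρ : MonAct A B) (a : MonAct A X)
    (hμ : IsEquivariant (a.prod a) a μ[X]) (hη : IsEquivariant (trivial A (𝟙_ C)) a η[X]) (T : C)
    (φ ψ : B ⊗ T ⟶ X) (hφ : IsEquivariant (ρ.prod (trivial A T)) a φ)
    (hψ : IsEquivariant (ρ.prod (trivial A T)) a ψ) :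
    IsEquivariant (ρ.prod (trivial A T)) a (φ * ψ) ∧
      IsEquivariant (ρ.prod (trivial A T)) a (1 : B ⊗ T ⟶ X) := by
  rw [mem_eqvHom_iff] at hφ hψ
  rw [isEquivariant_iff] at hμ hη
  constructor
  · rw [mem_eqvHom_iff]
    intro T' g b t
    rw [Hom.mul_def, comp_lift_assoc, comp_lift_assoc, hφ T' g b t, hψ T' g b t,
      ← hμ T' g (lift (lift b t ≫ φ) (lift b t ≫ ψ)), lift_prod_act_assoc]
  · rw [mem_eqvHom_iff]
    intro T' g b t
    rw [Hom.one_def, ← Category.assoc _ (toUnit (B ⊗ T)), ← Category.assoc _ (toUnit (B ⊗ T)),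
      comp_toUnit, comp_toUnit]
    have := hη T' g (toUnit T')
    rwa [← Category.assoc, lift_trivial_act] at this

theorem mem_inv {A B X : C} [MonObj A] [GrpObj X] (ρ : MonAct A B) (a : MonAct A X)
    (hμ : IsEquivariant (a.prod a) a μ[X]) (T : C) (φ : B ⊗ T ⟶ X)
    (hφ : IsEquivariant (ρ.prod (trivial A T)) a φ) :
    IsEquivariant (ρ.prod (trivial A T)) a φ⁻¹ := by
  rw [mem_eqvHom_iff] at hφ ⊢
  rw [isEquivariant_iff] at hμ
  intro T' g b t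
  have hci : ∀ {U : C} (f : U ⟶ B ⊗ T), f ≫ φ⁻¹ = (f ≫ φ)⁻¹ := fun f =>
    (Category.assoc _ _ _).symm
  rw [hci, hci, hφ T' g b t]
  set x := lift b t ≫ φ
  have hmul : ∀ y z : T' ⟶ X, (lift g y ≫ a.act) * (lift g z ≫ a.act) = lift g (y * z) ≫ a.act := by
    intro y z
    rw [Hom.mul_def y z, ← hμ T' g (lift y z), lift_prod_act_assoc, ← Hom.mul_def]
  have hone : (lift g (1 : T' ⟶ X)) ≫ a.act = 1 := by
    have h := hmul 1 1
    rw [_root_.mul_one] at h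
    exact mul_eq_left.mp h
  rw [inv_eq_iff_mul_eq_one, hmul, mul_inv_cancel, hone]

end Groth.Agent.MagnetLib
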